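import Groth.Agent.CommAlgDim.Depth
import Groth.Agent.CommAlgDim.MinGen

/-! # Minimal generators starting with a regular sequence -/

set_option autoImplicit false
set_option backward.isDefEq.respectTransparency false
set_option backward.isDefEq.respectTransparency.types false

universe u

open IsLocalRing RingTheory.Sequence CommAlgDim Pointwise

namespace GenPrefLib

theorem exists_generators : ∀ (j : ℕ) (T : Type u) [CommRing T] [IsLocalRing T] [IsNoetherianRing T]
    (J : Ideal T) (_ : J ≤ maximalIdeal T) (_ : HasSeqIn J T j),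
    j ≤ J.spanFinrank ∧ ∃ ts : List T, ts.length = J.spanFinrank ∧ Ideal.ofList ts = J ∧
      IsWeaklyRegular T (ts.take j) := by
  classical
  intro j
  induction j with
  | zero =>
    intro T _ _ _ J _ _
    obtain ⟨s, hs, hsJ⟩ := Submodule.FG.exists_span_finset_card_eq_spanFinrank (IsNoetherian.noetherian J)
    refine ⟨Nat.zero_le _, s.toList, by rw [Finset.length_toList, hs], ?_, ?_⟩
    · show Ideal.span {x | x ∈ s.toList} = J
      rw [show {x | x ∈ s.toList} = (s : Set T) from Set.ext fun x => by simp]
      exact hsJ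
    · rw [List.take_zero]; exact IsWeaklyRegular.nil T T
  | succ j ih =>
    intro T _ _ _ J hJ h
    have hass := (hasSeqIn_one_iff J).1 (h.mono (Nat.le_add_left 1 j))
    -- a regular element of `J` outside `𝔪 J`
    obtain ⟨x, hxJ, hx2, hx⟩ : ∃ x ∈ J, x ∉ maximalIdeal T * J ∧ IsSMulRegular T x := by
      by_contra hcon
      push Not at hcon
      let s : Finset (Ideal T) := insert (maximalIdeal T * J) (associatedPrimes.finite T T).toFinset
      have hsub : (J : Set T) ⊆ ⋃ P ∈ (s : Set (Ideal T)), (P : Set T) := fun x hx => by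
        by_cases hxm : x ∈ maximalIdeal T * J
        · exact Set.mem_iUnion₂.2 ⟨_, Finset.mem_insert_self _ _, hxm⟩
        · have hzd : x ∈ ⋃ p ∈ associatedPrimes T T, (p : Set T) := by
            rw [biUnion_associatedPrimes_eq_compl_nonZeroDivisors]
            exact fun hnz => hcon x hx hxm fun a b h => (mul_cancel_left_mem_nonZeroDivisors hnz).1 h
          obtain ⟨p, hp, hxp⟩ := Set.mem_iUnion₂.1 hzd
          exact Set.mem_iUnion₂.2 ⟨p, Finset.mem_insert_of_mem ((Set.Finite.mem_toFinset _).2 hp), hxp⟩
      obtain ⟨P, hP, hle⟩ := (Ideal.subset_union_prime (maximalIdeal T * J) (maximalIdeal T * J) (fun i hi hne _ => by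
        rcases Finset.mem_insert.1 hi with h' | h'
        · exact absurd h' hne
        · exact ((Set.Finite.mem_toFinset _).1 h').isPrime)).1 hsub
      rcases Finset.mem_insert.1 hP with rfl | hP
      · have hbot : J = ⊥ := Submodule.eq_bot_of_le_smul_of_le_jacobson_bot (maximalIdeal T) J
          (IsNoetherian.noetherian J) (by rw [smul_eq_mul]; exact hle)
          (maximalIdeal_le_jacobson _)
        obtain ⟨p, hp⟩ := associatedPrimes.nonempty T T
        exact hass p hp (by rw [hbot]; exact bot_le)
      · exact hass P ((Set.Finite.mem_toFinset _).1 hP) hle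
    let T' := T ⧸ Ideal.span {x}
    let π : T →+* T' := Ideal.Quotient.mk _
    haveI : Nontrivial T' := nontrivial_quotient (singleton_ne_top (hJ hxJ))
    have hJ' : J.map π ≤ maximalIdeal T' := by
      rw [← IsLocalRing.map_maximalIdeal_of_surjective π Ideal.Quotient.mk_surjective]
      exact Ideal.map_mono hJ
    have hker : x • (⊤ : Submodule T T) = (Ideal.span {x} : Submodule T T) := by
      ext z
      rw [Submodule.mem_smul_pointwise_iff_exists]
      exact ⟨fun ⟨w, _, hw⟩ => Ideal.mem_span_singleton'.2 ⟨w, by rw [mul_comm]; exact hw⟩,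
        fun hz => (Ideal.mem_span_singleton'.1 hz).elim fun w hw => ⟨w, trivial, by rw [smul_eq_mul, mul_comm, hw]⟩⟩
    let e : QuotSMulTop x T ≃ₗ[T] T' := Submodule.quotEquivOfEq _ _ hker
    obtain ⟨rs, hl, hm, hr⟩ := h.quotSMulTop hxJ hx
    have hseq : HasSeqIn (J.map π) T' j := ⟨rs.map π, by simp [hl], fun r hr' => by
      obtain ⟨a, ha, rfl⟩ := List.mem_map.1 hr'
      exact Ideal.mem_map_of_mem π (hm a ha),
      (isWeaklyRegular_map_algebraMap_iff T' T' rs).2 ((e.isWeaklyRegular_congr rs).1 hr)⟩
    obtain ⟨hle, ts, hts, htJ, htr⟩ := ih T' (J.map π) hJ' hseq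
    have hc := spanFinrank_quotient_singleton_add_one (IsNoetherian.noetherian J) hxJ hx2
    have hlift : ∀ y : T', y ∈ ts → ∃ z ∈ J, π z = y := fun y hy =>
      (Ideal.mem_map_iff_of_surjective π Ideal.Quotient.mk_surjective).1 (htJ ▸ Ideal.subset_span hy)
    choose l hlJ hl using hlift
    let us : List T := ts.pmap (fun y hy => l y hy) fun y hy => hy
    have hus : us.map π = ts := by simp [us, List.map_pmap, hl]
    refine ⟨by simp only [T', π] at hle hc ⊢; omega, x :: us, by simp [us, hts]; exact hc, le_antisymm ?_ ?_, ?_⟩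
    · rw [Ideal.span_le]
      intro z hz
      rcases List.mem_cons.1 hz with rfl | hz
      · exact hxJ
      · obtain ⟨y, hy, rfl⟩ := List.mem_pmap.1 hz
        exact hlJ y hy
    · intro z hz
      have h1 : π z ∈ (Ideal.ofList us).map π := by
        rw [Ideal.map_ofList, hus, htJ]; exact Ideal.mem_map_of_mem π hz
      rw [← Ideal.mem_comap, Ideal.comap_map_of_surjective π Ideal.Quotient.mk_surjective,
        ← RingHom.ker_eq_comap_bot, Ideal.mk_ker, sup_comm, ← Ideal.ofList_cons] at h1
      exact h1
    · rw [List.take_succ_cons, isWeaklyRegular_cons_iff]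
      refine ⟨hx, (e.isWeaklyRegular_congr _).2 ((isWeaklyRegular_map_algebraMap_iff T' T' _).1 ?_)⟩
      rw [List.map_take]
      show IsWeaklyRegular T' (List.take j (us.map π))
      rw [hus]
      exact htr

end GenPrefLib
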